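import Mathlib
import Cfsg.Agent.Lib.Hall.SystemNormalizer
import Cfsg.Agent.Lib.Cores.Carter
import Cfsg.Agent.Lib.KegelWielandt.Main

/-!
# Carter subgroups and system normalizers

If every `p'`-element of the Carter subgroup `C` lies in the member `K p` of a complement system,
the system normalizer of `K` lies in `C`; in a group of nilpotent length two they are equal.
-/

set_option autoImplicit false
set_option linter.style.haveILetI false
set_option linter.unusedSectionVars false

open scoped Pointwise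

namespace Cfsg.Agent.Lib.CarterSystem

universe u

variable {G : Type u} [Group G]

/-- The `p'`-part of a (nilpotent) subgroup. -/
def hallPart (p : ℕ) (A : Subgroup G) : Subgroup G := (Cfsg.pResidual p A).map A.subtype

theorem hallPart_le {p : ℕ} {A : Subgroup G} : hallPart p A ≤ A := Subgroup.map_subtype_le _

theorem le_normalizer_hallPart {p : ℕ} {A : Subgroup G} :
    A ≤ Subgroup.normalizer (hallPart p A : Set G) := by
  refine le_trans ?_ (Subgroup.le_normalizer_map A.subtype)
  rw [Subgroup.normalizer_eq_top, ← MonoidHom.range_eq_map, Subgroup.range_subtype]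

theorem mem_hallPart {p : ℕ} {A : Subgroup G} {x : G} (hx : x ∈ A)
    (h : (orderOf x).Coprime p) : x ∈ hallPart p A :=
  ⟨⟨x, hx⟩, Transfer.PResidual.mem_pResidual (by rwa [Subgroup.orderOf_mk]), rfl⟩

variable [Finite G]

theorem not_dvd_card_hallPart {p : ℕ} [Fact p.Prime] {A : Subgroup G}
    (hA : Group.IsNilpotent A) : ¬ p ∣ Nat.card (hallPart p A) := by
  haveI := hA
  rw [hallPart, Subgroup.card_map_of_injective A.subtype_injective]
  exact Transfer.PResidual.hasNormalPComplement_iff_not_dvd.mp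
    Transfer.Frobenius.hasNormalPComplement_of_isNilpotent

theorem coprime_of_mem_hallPart {p : ℕ} [Fact p.Prime] {A : Subgroup G}
    (hA : Group.IsNilpotent A) {x : G} (hx : x ∈ hallPart p A) : (orderOf x).Coprime p :=
  Nat.Coprime.coprime_dvd_left ((hallPart p A).orderOf_dvd_natCard hx)
    (((Fact.out : p.Prime).coprime_iff_not_dvd.mpr (not_dvd_card_hallPart hA)).symm)

/-- An element of a nilpotent subgroup is a `p'`-element times a `p`-element. -/
theorem exists_decomp {p : ℕ} [Fact p.Prime] {A : Subgroup G} (hA : Group.IsNilpotent A) {x : G}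
    (hx : x ∈ A) : ∃ a ∈ hallPart p A, ∃ b ∈ KegelWielandt.comp p A, x = a * b := by
  obtain ⟨b, a, hb, ha, he, hc, ⟨k, hk⟩, hcop⟩ :=
    Transfer.PResidual.exists_pPart_mul_pPrimePart (p := p) x (isOfFinOrder_of_finite x)
  obtain ⟨i, -, hi⟩ := (Nat.dvd_prime_pow Fact.out).mp (orderOf_dvd_of_pow_eq_one hk)
  exact ⟨a, mem_hallPart (Subgroup.zpowers_le.mpr hx ha) hcop, b,
    KegelWielandt.mem_comp hA (Subgroup.zpowers_le.mpr hx hb) hi, by rw [← hc, he]⟩

/-- `T` is a Hall `p'`-subgroup if it is a `p'`-group with `G = T P` for a `p`-group `P`. -/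
theorem isPiHall_of_factor {p : ℕ} [Fact p.Prime] {T P : Subgroup G} (hT : ¬ p ∣ Nat.card T)
    (hP : IsPGroup p P) (h : ∀ g : G, ∃ t ∈ T, ∃ x ∈ P, g = t * x) :
    Cfsg.IsPiHall {q | q ≠ p} T := by
  refine ⟨fun q _ hd e => hT (e ▸ hd), fun q hq hqp hd => hqp ?_⟩
  obtain ⟨k, hk⟩ := IsPGroup.iff_card.mp hP
  have h1 : T.index ∣ Nat.card P := by
    have e : Nat.card T * (T.index * Nat.card ↥(T ⊓ P)) = Nat.card T * Nat.card P := by
      rw [Products.card_mul_card h, ← mul_assoc, T.card_mul_index]
    exact Nat.eq_of_mul_eq_mul_left Nat.card_pos e ▸ Dvd.intro _ rfl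
  exact (Nat.prime_dvd_prime_iff_eq hq Fact.out).mp (hq.dvd_of_dvd_pow (hk ▸ hd.trans h1))

theorem le_of_normal_of_isPiHall [Group.IsSolvable G] {π : Set ℕ} {N H : Subgroup G} [N.Normal]
    (hH : Cfsg.IsPiHall π H) (hN : ∀ p : ℕ, p.Prime → p ∣ Nat.card N → p ∈ π) : N ≤ H := by
  obtain ⟨g, hg⟩ := Hall.exists_conj_le hH hN
  intro x hx
  have h1 := KegelWielandt.mem_conj.mp (hg (Subgroup.Normal.conj_mem ‹N.Normal› x hx g))
  simpa [mul_assoc] using h1

/-- `K` contains the `p'`-parts of `C`. -/
def Reduces (K : Nat.Primes → Subgroup G) (C : Subgroup G) : Prop :=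
  ∀ p : Nat.Primes, ∀ x ∈ C, (orderOf x).Coprime (p : ℕ) → x ∈ K p

theorem not_dvd_card_member {K : Nat.Primes → Subgroup G} (hK : Cfsg.IsComplementSystem K)
    (p : Nat.Primes) : ¬ (p : ℕ) ∣ Nat.card (K p) :=
  fun h => (Hall.SystemNormalizer.isComplementSystem_iff.mp hK p).1 p p.2 h rfl

theorem exists_reduces [Group.IsSolvable G] {C : Subgroup G} (hC : Group.IsNilpotent C) :
    ∃ K : Nat.Primes → Subgroup G, Cfsg.IsComplementSystem K ∧ Reduces K C := by
  have h : ∀ p : Nat.Primes, ∃ H : Subgroup G, Cfsg.IsPiHall {q | q ≠ (p : ℕ)} H ∧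
      hallPart (p : ℕ) C ≤ H := fun p =>
    Hall.exists_isPiHall_ge fun q _ hd e => by
      haveI := Fact.mk p.2
      exact not_dvd_card_hallPart (p := (p : ℕ)) hC (e ▸ hd)
  choose K hK1 hK2 using h
  exact ⟨K, Hall.SystemNormalizer.isComplementSystem_iff.mpr hK1,
    fun p x hx hco => hK2 p (mem_hallPart hx hco)⟩

theorem mem_systemNormalizer_conj {K L : Nat.Primes → Subgroup G} {g x : G}
    (hg : ∀ p, MulAut.conj g • K p = L p) (hx : x ∈ Cfsg.systemNormalizer L) :
    g⁻¹ * x * g ∈ Cfsg.systemNormalizer K := by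
  rw [Hall.SystemNormalizer.mem_systemNormalizer_iff] at hx ⊢
  intro p
  rw [map_mul, map_mul, mul_smul, mul_smul, hg, hx, ← hg, map_inv, inv_smul_smul]

/-- The key inclusion: a system normalizer lies in each Carter subgroup it reduces into. -/
theorem systemNormalizer_le_aux : ∀ (n : ℕ) {G : Type u} [Group G] [Finite G]
    [Group.IsSolvable G] (C : Subgroup G) (K : Nat.Primes → Subgroup G), Nat.card G = n →
    Cores.Carter.IsCarterPair C → Cfsg.IsComplementSystem K → Reduces K C →
    Cfsg.systemNormalizer K ≤ C := by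
  intro n
  induction n using Nat.strong_induction_on with
  | _ n ih =>
  intro G _ _ _ C K hn hC hK hR
  by_cases hCt : C = ⊤
  · exact hCt ▸ le_top
  haveI : Nontrivial G := by
    by_contra hc
    rw [not_nontrivial_iff_subsingleton] at hc
    exact hCt (Subsingleton.elim _ _)
  obtain ⟨N, hNn, hN0, hmin⟩ := Cores.MinNormal.exists_minimal (G := G)
  haveI := hNn
  obtain ⟨hcomm, r, hr, hexp⟩ := Cores.MinNormal.elementary_of_solvable hN0 hmin
  haveI := Fact.mk hr
  have hNr := Cores.MinNormal.isPGroup_of_pow_eq_one hexp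
  have hsurj := QuotientGroup.mk'_surjective N
  -- the system normalizer lies in `C N`
  have hDH : Cfsg.systemNormalizer K ≤ C ⊔ N := by
    have h1 : Cfsg.systemNormalizer (fun p => (K p).map (QuotientGroup.mk' N)) ≤
        C.map (QuotientGroup.mk' N) := by
      refine ih _ (hn ▸ Hall.card_quotient_lt hN0) _ _ rfl
        (Cores.Carter.map_carter le_rfl (Cores.Carter.conjBelow _) hC)
        (Hall.SystemNormalizer.isComplementSystem_map hK _ hsurj) ?_
      rintro p _ ⟨c, hc, rfl⟩ hco
      haveI := Fact.mk p.2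
      obtain ⟨a, ha, b, hb, rfl⟩ := exists_decomp (p := (p : ℕ)) hC.1 hc
      refine ⟨a, hR p a (hallPart_le ha) (coprime_of_mem_hallPart hC.1 ha), ?_⟩
      obtain ⟨k, hk⟩ := KegelWielandt.orderOf_mem_comp hb
      have hab : a * b = b * a := by
        refine KegelWielandt.commute_of_coprime hC.1 (hallPart_le ha) (KegelWielandt.comp_le hb) ?_
        rw [hk]
        exact (coprime_of_mem_hallPart hC.1 ha).pow_right k
      set f := QuotientGroup.mk' N
      have hb1 : orderOf (f b) = 1 := by
        refine Nat.eq_one_of_dvd_coprimes (hco.pow_right k) ?_ (hk ▸ orderOf_map_dvd f b)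
        have hcop : (orderOf (f a)).Coprime (orderOf (f b)) := by
          refine ((coprime_of_mem_hallPart hC.1 ha).pow_right k).coprime_dvd_left
            (orderOf_map_dvd f a) |>.coprime_dvd_right ?_
          exact hk ▸ orderOf_map_dvd f b
        rw [map_mul, ((Commute.map (show Commute a b from hab) f)).orderOf_mul_eq_mul_orderOf_of_coprime hcop]
        exact Dvd.intro_left _ rfl
      rw [orderOf_eq_one_iff] at hb1
      rw [map_mul, hb1, mul_one]
    intro x hx
    rw [Hall.SystemNormalizer.systemNormalizer_map hK] at h1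
    have h2 : x ∈ (C.map (QuotientGroup.mk' N)).comap (QuotientGroup.mk' N) :=
      h1 (Subgroup.mem_map_of_mem _ hx)
    rwa [Subgroup.comap_map_eq, QuotientGroup.ker_mk'] at h2
  by_cases hH : C ⊔ N = ⊤
  · -- `C` is a complement of the minimal normal subgroup `N`
    have hnil : ¬ Group.IsNilpotent G := fun h => hCt (Cores.Carter.eq_top_of_isNilpotent hC)
    have hab : ∀ a ∈ N, ∀ b ∈ N, a * b = b * a := fun a ha b hb =>
      congrArg Subtype.val (mul_comm' (⟨a, ha⟩ : N) ⟨b, hb⟩)
    intro d hd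
    set p : Nat.Primes := ⟨r, hr⟩
    have hfac : ∀ g : G, ∃ t ∈ hallPart r C, ∃ x ∈ KegelWielandt.comp r C ⊔ N, g = t * x := by
      intro g
      obtain ⟨c, hc, m, hm, rfl⟩ := Subgroup.mem_sup_of_normal_right.mp
        (show g ∈ C ⊔ N by rw [hH]; trivial)
      obtain ⟨a, ha, b, hb, rfl⟩ := exists_decomp (p := r) hC.1 hc
      exact ⟨a, ha, b * m, mul_mem (Subgroup.mem_sup_left hb) (Subgroup.mem_sup_right hm),
        mul_assoc a b m⟩
    have hP : IsPGroup r ↥(KegelWielandt.comp r C ⊔ N) :=
      KegelWielandt.isPGroup_comp.to_sup_of_normal_right hNr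
    have hHall := isPiHall_of_factor (not_dvd_card_hallPart hC.1) hP hfac
    have hKp : hallPart r C = K p :=
      Hall.isPiHall_eq_of_le hHall (Hall.SystemNormalizer.isComplementSystem_iff.mp hK p).1
        fun x hx => hR p x (hallPart_le hx) (coprime_of_mem_hallPart hC.1 hx)
    have hQ : Subgroup.normalizer (hallPart r C : Set G) = C := by
      refine KegelWielandt.eq_of_le_of_ne_top hab hmin hH le_normalizer_hallPart fun ht => hnil ?_
      haveI := Subgroup.normalizer_eq_top_iff.mp ht
      refine Cores.Carter.isNilpotent_of_inf_eq_bot (N := N) (M := hallPart r C) ?_ ?_ ?_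
      · refine Hall.inf_eq_bot_of_coprime ?_
        obtain ⟨k, hk⟩ := IsPGroup.iff_card.mp hNr
        rw [hk]
        exact (hr.coprime_iff_not_dvd.mpr (not_dvd_card_hallPart hC.1)).pow_left k
      · have h1 : C.map (QuotientGroup.mk' N) = ⊤ := by
          rw [← Subgroup.map_top_of_surjective _ hsurj, ← hH, Subgroup.map_sup,
            (Subgroup.map_eq_bot_iff N).mpr (QuotientGroup.ker_mk' N).ge, sup_bot_eq]
        exact Group.isNilpotent_top.mp (h1 ▸ Cores.isNilpotent_map _ hC.1)
      · refine IsPGroup.isNilpotent (p := r) ?_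
        rw [IsPGroup.iff_card]
        refine ⟨_, Nat.eq_prime_pow_of_unique_prime_dvd Nat.card_pos.ne' fun {q} hq hd => ?_⟩
        by_contra hqr
        exact hHall.2 q hq hqr (by rwa [Subgroup.index_eq_card])
    rw [← hQ, hKp]
    exact (Subgroup.mem_iInf.mp hd) p
  · set H := C ⊔ N with hHdef
    intro x hx
    have hxH : x ∈ H := hDH hx
    have hCH : C ≤ H := le_sup_left
    refine ih _ (hn ▸ Cores.Carter.card_lt_card hH) (C.subgroupOf H)
      (fun q => (K q).subgroupOf H) rfl (Cores.Carter.subgroupOf_carter hC hCH) ?_ ?_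
      (show (⟨x, hxH⟩ : H) ∈ Cfsg.systemNormalizer fun q => (K q).subgroupOf H from ?_)
    · refine Hall.SystemNormalizer.isComplementSystem_iff.mpr fun q => ?_
      haveI := Fact.mk q.2
      have hT : ¬ (q : ℕ) ∣ Nat.card ((K q).subgroupOf H) := fun h => not_dvd_card_member hK q
        (h.trans (Subgroup.card_comap_dvd_of_injective (K q) _ H.subtype_injective))
      have haK : ∀ {a : G}, a ∈ hallPart (q : ℕ) C → a ∈ K q := fun {a} ha =>
        hR q a (hallPart_le ha) (coprime_of_mem_hallPart hC.1 ha)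
      by_cases hqr : (q : ℕ) = r
      · refine isPiHall_of_factor hT (P := (KegelWielandt.comp (q : ℕ) C ⊔ N).subgroupOf H)
          ((KegelWielandt.isPGroup_comp.to_sup_of_normal_right (hqr ▸ hNr)).comap_subtype)
          fun g => ?_
        obtain ⟨c, hc, m, hm, he⟩ := Subgroup.mem_sup_of_normal_right.mp g.2
        obtain ⟨a, ha, b, hb, rfl⟩ := exists_decomp (p := (q : ℕ)) hC.1 hc
        exact ⟨⟨a, hCH (hallPart_le ha)⟩, haK ha,
          ⟨b * m, mul_mem (hCH (KegelWielandt.comp_le hb)) (Subgroup.mem_sup_right hm)⟩,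
          mul_mem (Subgroup.mem_sup_left hb) (Subgroup.mem_sup_right hm),
          Subtype.ext (by rw [← he]; exact mul_assoc a b m)⟩
      · have hNK : N ≤ K q := by
          refine le_of_normal_of_isPiHall (π := {t | t ≠ (q : ℕ)}) ?_ ?_
          · exact Hall.SystemNormalizer.isComplementSystem_iff.mp hK q
          · exact fun t ht htd => by
              rw [Hall.prime_dvd_pgroup hr ht hNr htd]
              exact fun e => hqr e.symm
        refine isPiHall_of_factor hT (P := (KegelWielandt.comp (q : ℕ) C).subgroupOf H)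
          (KegelWielandt.isPGroup_comp.comap_subtype) fun g => ?_
        obtain ⟨c, hc, m, hm, he⟩ := Subgroup.mem_sup_of_normal_right.mp g.2
        obtain ⟨a, ha, b, hb, rfl⟩ := exists_decomp (p := (q : ℕ)) hC.1 hc
        exact ⟨⟨a * (b * m * b⁻¹), mul_mem (hCH (hallPart_le ha))
            (Subgroup.mem_sup_right (hNn.conj_mem m hm b))⟩,
          mul_mem (haK ha) (hNK (hNn.conj_mem m hm b)),
          ⟨b, hCH (KegelWielandt.comp_le hb)⟩, hb, Subtype.ext (by
            show (g : G) = a * (b * m * b⁻¹) * b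
            rw [← he]; group)⟩
    · intro q y hy hco
      exact hR q y hy (by rwa [← Subgroup.orderOf_coe] at hco)
    · rw [Cfsg.systemNormalizer, Subgroup.mem_iInf]
      intro q
      exact Subgroup.le_normalizer_comap H.subtype
        (show H.subtype ⟨x, hxH⟩ ∈ Subgroup.normalizer (K q : Set G) from
          Subgroup.mem_iInf.mp hx q)

theorem systemNormalizer_le [Group.IsSolvable G] {C : Subgroup G} {K : Nat.Primes → Subgroup G}
    (hC : Cores.Carter.IsCarterPair C) (hK : Cfsg.IsComplementSystem K) (hR : Reduces K C) :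
    Cfsg.systemNormalizer K ≤ C :=
  systemNormalizer_le_aux _ C K rfl hC hK hR

/-- In a group of nilpotent length at most two the system normalizers are Carter subgroups. -/
theorem le_systemNormalizer [Group.IsSolvable G] {F : Subgroup G} [F.Normal]
    (hF : Group.IsNilpotent F) (hGF : Group.IsNilpotent (G ⧸ F)) {C : Subgroup G}
    {K : Nat.Primes → Subgroup G}
    (hC : Cores.Carter.IsCarterPair C) (hK : Cfsg.IsComplementSystem K) (hR : Reduces K C) :
    C ≤ Cfsg.systemNormalizer K := by
  have hCF : C ⊔ F = ⊤ := by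
    haveI := hGF
    exact KegelWielandt.sup_eq_top_of_map_eq_top
      (Cores.Carter.eq_top_of_isNilpotent (Cores.Carter.map_carter le_rfl
        (Cores.Carter.conjBelow _) hC))
  rw [Cfsg.systemNormalizer]
  refine le_iInf fun p => ?_
  haveI := Fact.mk p.2
  set F₀ := hallPart (p : ℕ) F with hF₀
  haveI : F₀.Normal := Cores.normal_map_subtype F (Cfsg.pResidual (p : ℕ) F)
  haveI : (KegelWielandt.comp (p : ℕ) F).Normal := Cores.normal_map_subtype F _
  have hKp : K p = hallPart (p : ℕ) C ⊔ F₀ := by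
    have hF₀K : F₀ ≤ K p := le_of_normal_of_isPiHall
      (Hall.SystemNormalizer.isComplementSystem_iff.mp hK p)
      fun t _ htd e => not_dvd_card_hallPart hF (e ▸ htd)
    have hle : hallPart (p : ℕ) C ⊔ F₀ ≤ K p :=
      sup_le (fun x hx => hR p x (hallPart_le hx) (coprime_of_mem_hallPart hC.1 hx)) hF₀K
    refine (Hall.isPiHall_eq_of_le (isPiHall_of_factor (P :=
      KegelWielandt.comp (p : ℕ) C ⊔ KegelWielandt.comp (p : ℕ) F)
      (fun h => not_dvd_card_member hK p (h.trans (Subgroup.card_dvd_of_le hle)))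
      (KegelWielandt.isPGroup_comp.to_sup_of_normal_right KegelWielandt.isPGroup_comp) fun g => ?_)
      (Hall.SystemNormalizer.isComplementSystem_iff.mp hK p).1 hle).symm
    obtain ⟨c, hc, f, hf, rfl⟩ := Subgroup.mem_sup_of_normal_right.mp
      (show g ∈ C ⊔ F by rw [hCF]; trivial)
    obtain ⟨a, ha, b, hb, rfl⟩ := exists_decomp (p := (p : ℕ)) hC.1 hc
    obtain ⟨f₁, hf₁, f₂, hf₂, rfl⟩ := exists_decomp (p := (p : ℕ)) hF hf
    refine ⟨a * (b * f₁ * b⁻¹), mul_mem (Subgroup.mem_sup_left ha)
      (Subgroup.mem_sup_right (Subgroup.Normal.conj_mem inferInstance f₁ hf₁ b)), b * f₂,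
      mul_mem (Subgroup.mem_sup_left hb) (Subgroup.mem_sup_right hf₂), ?_⟩
    group
  intro c hc
  rw [hKp]
  refine KegelWielandt.mem_normalizer_of_conj_mem fun x hx => ?_
  have h1 : MulAut.conj c • (hallPart (p : ℕ) C ⊔ F₀) = hallPart (p : ℕ) C ⊔ F₀ := by
    rw [Subgroup.smul_sup, KegelWielandt.conj_smul_eq_of_mem_normalizer (le_normalizer_hallPart hc),
      Subgroup.Normal.conj_smul_eq_self]
  rw [← h1]
  exact KegelWielandt.conj_mem_iff.mpr hx

end Cfsg.Agent.Lib.CarterSystem
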